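import Groth.Agent.L19.SplitExt.Spec
import Groth.Agent.L22.VBSub.Spec
import Groth.Agent.L20.ModStalk
import Groth.Agent.L17.Approx.Extend
import Groth.Prelude.Def_PerfAux
import Mathlib.AlgebraicGeometry.Morphisms.ClosedImmersion

/-!
If the split thickenings embed in vector bundles, the resolution property holds.
-/

set_option autoImplicit false
set_option linter.style.haveILetI false
set_option backward.isDefEq.respectTransparency false
set_option backward.isDefEq.respectTransparency.types false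

noncomputable section

universe u

open CategoryTheory CategoryTheory.Limits AlgebraicGeometry TopologicalSpace Opposite

namespace Groth.L09.ResEmb

open Groth.L18.Frame (rs ro)
open Groth.L19.OmegaSh
open Groth.L19.SplitExt

variable {X : Scheme.{u}} (F : X.Modules) [Coh.IsQCoh F]

theorem gam_ret (U : X.Opens) (r : Γ(X, U)) : gam F U ((ret F).app U r) = inlL F U r :=
  ConcreteCategory.congr_hom (NatTrans.congr_app (alg F).π_c_gammaMap (op U)) r

/-- An embedding of the split thickening in `V(E)` gives an epimorphism `E ⟶ F`. -/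
theorem exists_epi_of_embedding (E : X.Modules) [Coh.IsQCoh E] (A : RelSpec.QCAlg X) (j : E ⟶ A.toModule)
    (hA : RelSpec.IsSymAlg E A j) (i : spec F ⟶ A.spec) [IsClosedImmersion i] (hi : i ≫ A.π = ret F) :
    ∃ π : E ⟶ F, Epi π := by
  have hle : ∀ U : X.Opens, ret F ⁻¹ᵁ U ≤ i ⁻¹ᵁ (A.π ⁻¹ᵁ U) := fun U => by
    rw [← Scheme.Hom.comp_preimage, hi]
  let g : ∀ U : X.Opens, Γ(A.spec, A.π ⁻¹ᵁ U) →+* L F U := fun U =>
    ((i.appLE (A.π ⁻¹ᵁ U) (ret F ⁻¹ᵁ U) (hle U)) ≫ gam F U).hom
  have hgπ : ∀ (U : X.Opens) (r : Γ(X, U)), g U (A.π.app U r) = inlL F U r := fun U r => by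
    refine Eq.trans ?_ (gam_ret F U r)
    show gam F U (i.appLE (A.π ⁻¹ᵁ U) (ret F ⁻¹ᵁ U) (hle U) (A.π.app U r)) = _
    refine congrArg (gam F U) ?_
    rw [← CommRingCat.comp_apply, Scheme.Hom.app_eq_appLE, Scheme.Hom.appLE_comp_appLE,
      Scheme.Hom.app_eq_appLE]
    simp only [hi]
  have hgres : ∀ {U V : X.Opens} (h : V ≤ U) (z : Γ(A.spec, A.π ⁻¹ᵁ U)),
      g V (ro (A.π.preimage_mono h) z) = resL F h (g U z) := fun {U V} h z => by
    have e : A.spec.presheaf.map (homOfLE (A.π.preimage_mono h)).op ≫ i.appLE _ _ (hle V) =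
        i.appLE _ _ (hle U) ≫ (spec F).presheaf.map (homOfLE ((ret F).preimage_mono h)).op := by
      rw [Scheme.Hom.map_appLE, Scheme.Hom.appLE_map]
    exact (congrArg (gam F V) (ConcreteCategory.congr_hom e z)).trans (ConcreteCategory.congr_hom (gam_nat F h) _)
  have hsmul : ∀ (U : X.Opens) (r : Γ(X, U)) (m : Γ(E, U)),
      snd' F (g U (Groth.L22.VBSub.fn j U (r • m))) = r • snd' F (g U (Groth.L22.VBSub.fn j U m)) := by
    intro U r m
    rw [Groth.L22.VBSub.fn_smul, map_mul, hgπ, inlL_apply, snd_mul, fst_mk, snd_mk, smul_zero, add_zero]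
  let π : E ⟶ F :=
    ⟨PresheafOfModules.homMk
      { app := fun U => AddCommGrpCat.ofHom
          (AddMonoidHom.mk' (fun m => snd' F (g U.unop (Groth.L22.VBSub.fn j U.unop m))) fun a b => by
            show snd' F (g U.unop (Groth.L22.VBSub.fn j U.unop (a + b))) = _
            rw [Groth.L22.VBSub.fn_add, map_add, snd_add])
        naturality := fun U V k => by
          ext m
          show snd' F (g V.unop (Groth.L22.VBSub.fn j V.unop (rs E (leOfHom k.unop) m))) =
            rs F (leOfHom k.unop) (snd' F (g U.unop (Groth.L22.VBSub.fn j U.unop m)))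
          rw [Groth.L22.VBSub.fn_rs, hgres, snd_resL] }
      fun U r m => hsmul U.unop r m⟩
  refine ⟨π, ?_⟩
  choose U hU hxU _ using fun y : X => exists_isAffineOpen_mem_and_subset (x := y) (U := ⊤) trivial
  refine Groth.L17.Approx.epi_of_surjective_cover π U hU (fun y => ⟨y, hxU y⟩) fun y => ?_
  have hp : i ⁻¹ᵁ (A.π ⁻¹ᵁ U y) = ret F ⁻¹ᵁ U y := by rw [← Scheme.Hom.comp_preimage, hi]
  haveI : IsIso (homOfLE hp.ge) := ⟨homOfLE hp.le, rfl, rfl⟩
  have hgs : Function.Surjective (g (U y)) := by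
    intro w
    obtain ⟨v, rfl⟩ := (ConcreteCategory.bijective_of_isIso (gam F (U y))).2 w
    obtain ⟨v', rfl⟩ :=
      (ConcreteCategory.bijective_of_isIso ((spec F).presheaf.map (homOfLE hp.ge).op)).2 v
    obtain ⟨z, rfl⟩ := ((isClosedImmersion_iff_isAffineHom.mp inferInstance).2 (A.π ⁻¹ᵁ U y)
      ((hU y).preimage A.π)) v'
    exact ⟨z, rfl⟩
  let N : Submodule Γ(X, U y) Γ(F, U y) :=
    LinearMap.range ({ toFun := fun m => π.app (U y) m, map_add' := map_add _,
                       map_smul' := fun r m => π.app_smul r m } : Γ(E, U y) →ₗ[Γ(X, U y)] Γ(F, U y))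
  obtain ⟨Θ, h0, h1⟩ := Groth.L22.VBSub.exists_sym j hA (hU y)
  have key : ∀ s, snd' F (g (U y) (Θ s)) ∈ N := by
    intro s
    induction s using SymmetricAlgebra.induction with
    | algebraMap r =>
      rw [h0, hgπ, inlL_apply, snd_mk]
      exact zero_mem N
    | ι m => exact ⟨m, (congrArg (fun z => snd' F (g (U y) z)) (h1 m)).symm⟩
    | mul a b ha hb =>
      rw [map_mul, map_mul, snd_mul]
      exact add_mem (N.smul_mem _ hb) (N.smul_mem _ ha)
    | add a b ha hb =>
      rw [map_add, map_add, snd_add]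
      exact add_mem ha hb
  intro n
  obtain ⟨z, hz⟩ := hgs (Groth.L19.OmegaSh.mk F (U y) 0 n)
  obtain ⟨s, rfl⟩ := Θ.surjective z
  obtain ⟨m, hm⟩ := key s
  exact ⟨m, hm.trans ((congrArg (snd' F) hz).trans (snd_mk F _ _))⟩

theorem hasResolutionProperty_of_embeddings (S : Scheme.{u})
    (h : ∀ (X : Scheme.{u}) (f : X ⟶ S) [IsAffineHom f] [LocallyOfFiniteType f],
      ∃ (E : S.Modules) (A : RelSpec.QCAlg S) (j : E ⟶ A.toModule) (i : X ⟶ A.spec),
        Coh.IsQCoh E ∧ FlatMod.IsFinLocFree E ∧ RelSpec.IsSymAlg E A j ∧ IsClosedImmersion i ∧ i ≫ A.π = f) :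
    PerfAux.HasResolutionProperty S := by
  intro M hM hMft
  haveI := hM
  haveI := locallyOfFiniteType_ret M fun U hU => Groth.L20.ModStalk.finite_sections M ⟨hM, hMft⟩ hU
  obtain ⟨E, A, j, i, hE, hEf, hA, hi, hif⟩ := h (spec M) (ret M)
  haveI := hE
  haveI := hi
  obtain ⟨π, hπ⟩ := exists_epi_of_embedding M E A j hA i hif
  exact ⟨E, π, hEf, hπ⟩

end Groth.L09.ResEmb
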