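import Groth.Agent.L09.ResEmb.Forward
import Groth.Agent.L09.ResEmb.Backward
import Groth.Agent.L00.AlgQCoh
import Groth.Agent.L18.TildeFunctor
import Groth.Agent.L16.CohClosedPush

/-!
Generating families and embeddings of affine morphisms in vector bundles.
-/

set_option autoImplicit false
set_option linter.style.haveILetI false
set_option backward.isDefEq.respectTransparency false
set_option backward.isDefEq.respectTransparency.types false

noncomputable section

universe u

open CategoryTheory CategoryTheory.Limits AlgebraicGeometry TopologicalSpace Opposite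

namespace Groth.L09.ResEmb

variable {X : Scheme.{u}}

/-- Global sections on an affine scheme, as modules over the ring. -/
abbrev gΓ (R : CommRingCat.{u}) : (Spec R).Modules ⥤ ModuleCat.{u} R := moduleSpecΓFunctor

theorem mem_iSup_range_module {R : Type u} [CommRing R] {κ : Type u} {A : κ → ModuleCat.{u} R}
    {B : ModuleCat.{u} R} (L : ∀ k, A k ⟶ B)
    (hL : ∀ (W : ModuleCat.{u} R) (q : B ⟶ W), (∀ k, L k ≫ q = 0) → q = 0) (x : B) :
    x ∈ ⨆ k, LinearMap.range (L k).hom := by
  let N : Submodule R B := ⨆ k, LinearMap.range (L k).hom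
  have hq := hL (ModuleCat.of R (B ⧸ N)) (ModuleCat.ofHom N.mkQ) fun k =>
    ModuleCat.hom_ext (LinearMap.ext fun y =>
      (Submodule.Quotient.mk_eq_zero N).2 (Submodule.mem_iSup_of_mem k ⟨y, rfl⟩))
  exact (Submodule.Quotient.mk_eq_zero N).1 (congr($hq x))

/-- Jointly epimorphic morphisms of quasi-coherent modules on an affine scheme are jointly surjective on
global sections. -/
theorem mem_iSup_range {R : CommRingCat.{u}} {κ : Type u} {G : κ → (Spec R).Modules} {M : (Spec R).Modules}
    [M.IsQuasicoherent] [∀ k, (G k).IsQuasicoherent] (L : ∀ k, G k ⟶ M)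
    (hL : ∀ (Z : (Spec R).Modules) (h : M ⟶ Z), (∀ k, L k ≫ h = 0) → h = 0)
    (x : (gΓ R).obj M) : x ∈ ⨆ k, LinearMap.range ((gΓ R).map (L k)).hom := by
  refine mem_iSup_range_module (fun k => (gΓ R).map (L k)) (fun W q hq => ?_) x
  let c := Groth.L18.TildeF.counitIso M
  have hψ : c.inv ≫ (tilde.functor R).map q = 0 := hL _ _ fun k => by
    have hnat : (tilde.functor R).map ((gΓ R).map (L k)) ≫ c.hom =
        (Groth.L18.TildeF.counitIso (G k)).hom ≫ L k := tilde.adjunction.counit.naturality (L k)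
    rw [← cancel_epi (Groth.L18.TildeF.counitIso (G k)).hom, comp_zero, ← Category.assoc, ← hnat,
      Category.assoc, c.hom_inv_id_assoc, ← Functor.map_comp, hq k]
    exact (tilde.functor R).map_zero _ _
  refine (tilde.functor R).map_injective ?_
  rw [Functor.map_zero, ← cancel_epi c.inv, comp_zero]
  exact hψ

/-- Sections over an affine open of a direct sum are sums of sections of the summands. -/
theorem sigma_induction {κ : Type u} (G : κ → X.Modules) (hG : ∀ k, Coh.IsQCoh (G k)) {U : X.Opens}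
    (hU : IsAffineOpen U) {P : Γ(∐ G, U) → Prop} (zero : P 0) (add : ∀ x y, P x → P y → P (x + y))
    (ι : ∀ (k : κ) (y : Γ(G k, U)), P ((Sigma.ι G k).app U y)) (x : Γ(∐ G, U)) : P x := by
  obtain ⟨R, j, hj, rfl⟩ : ∃ (R : CommRingCat.{u}) (j : Spec R ⟶ X) (_ : IsOpenImmersion j), j ''ᵁ ⊤ = U :=
    ⟨_, hU.fromSpec, inferInstance, by rw [Scheme.Hom.image_top_eq_opensRange, hU.opensRange_fromSpec]⟩
  haveI := Groth.L00.AlgQCoh.isQCoh_sigma G hG
  let F := Scheme.Modules.restrictFunctor j
  haveI : (F.obj (∐ G)).IsQuasicoherent := Scheme.Modules.isQuasicoherent_restrictFunctor j (∐ G)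
  haveI : ∀ k, (F.obj (G k)).IsQuasicoherent := fun k =>
    haveI : (G k).IsQuasicoherent := hG k
    Scheme.Modules.isQuasicoherent_restrictFunctor j (G k)
  have hx := mem_iSup_range (fun k => F.map (Sigma.ι G k)) (fun Z h hh => by
    apply ((Scheme.Modules.restrictAdjunction j).homEquiv _ _).injective
    refine Sigma.hom_ext _ _ fun k => ?_
    rw [← Adjunction.homEquiv_naturality_left, ← Adjunction.homEquiv_naturality_left, comp_zero]
    exact congrArg _ (hh k)) x
  induction hx using Submodule.iSup_induction' with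
  | mem k y hy =>
    obtain ⟨z, rfl⟩ := hy
    exact ι k z
  | zero => exact zero
  | add a b _ _ ha hb => exact add a b ha hb

theorem generating_iff [CompactSpace X] {ι₀ : Type u} (E : ι₀ → X.Modules)
    (hE : ∀ i, Coh.IsQCoh (E i) ∧ CohB1.IsFP (E i)) :
    (∀ M : X.Modules, Coh.IsQCoh M → ∃ (κ : Type u) (j : κ → ι₀) (π : (∐ fun k : κ => E (j k)) ⟶ M), Epi π) ↔
    (∀ (Y : Scheme.{u}) (f : Y ⟶ X) [IsAffineHom f],
      ∃ (κ : Type u) (j : κ → ι₀) (B : RelSpec.QCAlg X) (φ : (∐ fun k : κ => E (j k)) ⟶ B.toModule)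
        (c : Y ⟶ B.spec), RelSpec.IsSymAlg (∐ fun k : κ => E (j k)) B φ ∧ IsClosedImmersion c ∧ c ≫ B.π = f ∧
        (LocallyOfFiniteType f → Finite κ)) := by
  classical
  refine ⟨fun hgen Y f _ => ?_, fun hemb M hM => ?_⟩
  · let B := RelSpec.QCAlg.directImage f
    haveI : Coh.IsQCoh B.toModule := Groth.L00.QCAlgModule.isQCoh_toModule B
    obtain ⟨κ, j, π, hπ⟩ := hgen B.toModule inferInstance
    haveI := hπ
    haveI hQ : ∀ {κ' : Type u} (j' : κ' → ι₀), Coh.IsQCoh (∐ fun k : κ' => E (j' k)) := fun j' =>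
      Groth.L00.AlgQCoh.isQCoh_sigma _ fun k => (hE (j' k)).1
    haveI := hQ j
    choose U hU hxU _ using fun y : X => exists_isAffineOpen_mem_and_subset (x := y) (U := ⊤) trivial
    by_cases hft : LocallyOfFiniteType f
    · haveI := hft
      obtain ⟨S, hS⟩ := isCompact_univ.elim_finite_subcover (fun y : X => (U y : Set X)) (fun y => (U y).2)
        (fun y _ => Set.mem_iUnion.2 ⟨y, hxU y⟩)
      have hft' : ∀ y, (f.app (U y)).hom.FiniteType := fun y => by
        rw [Scheme.Hom.app_eq_appLE]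
        exact f.finiteType_appLE (hU y) ((hU y).preimage f) le_rfl
      choose t ht using fun y => (show
        letI := (f.app (U y)).hom.toAlgebra
        ∃ t : Finset Γ(Y, f ⁻¹ᵁ U y), Algebra.adjoin Γ(X, U y) (t : Set Γ(Y, f ⁻¹ᵁ U y)) = ⊤ from
          letI := (f.app (U y)).hom.toAlgebra
          (show Algebra.FiniteType Γ(X, U y) Γ(Y, f ⁻¹ᵁ U y) from hft' y).out)
      let R : Finset κ → ∀ y, AddSubgroup Γ(B.toModule, U y) := fun s y =>
        ⨆ k ∈ s, ((Sigma.ι (fun k => E (j k)) k ≫ π).app (U y)).hom.range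
      have hfin : ∀ (y : X) (m : Γ(∐ fun k : κ => E (j k), U y)), ∃ s, π.app (U y) m ∈ R s y := by
        intro y m
        induction m using sigma_induction (fun k => E (j k)) (fun k => (hE (j k)).1) (hU y) with
        | zero => exact ⟨∅, by rw [map_zero]; exact zero_mem _⟩
        | add a b ha hb =>
          obtain ⟨s, hs⟩ := ha
          obtain ⟨s', hs'⟩ := hb
          exact ⟨s ∪ s', by
            rw [map_add]
            exact add_mem ((biSup_mono fun k hk => Finset.mem_union_left _ hk : R s y ≤ R (s ∪ s') y) hs)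
              ((biSup_mono fun k hk => Finset.mem_union_right _ hk : R s' y ≤ R (s ∪ s') y) hs')⟩
        | ι k z => exact ⟨{k}, le_iSup₂ (f := fun k' _ => ((Sigma.ι (fun k => E (j k)) k' ≫ π).app (U y)).hom.range)
            k (Finset.mem_singleton_self k) ⟨z, rfl⟩⟩
      choose g hg using fun (y : X) (a : Γ(Y, f ⁻¹ᵁ U y)) =>
        Groth.L16.AffineBC.surjective_app_of_epi π (hU y) (show Γ(B.toModule, U y) from a)
      choose s hs using fun (y : X) (a : Γ(Y, f ⁻¹ᵁ U y)) => hfin y (g y a)
      let T : Finset κ := S.biUnion fun y => (t y).biUnion fun a => s y a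
      let j' : ↥T → ι₀ := fun k => j k.1
      let φ : (∐ fun k : ↥T => E (j' k)) ⟶ B.toModule :=
        Sigma.desc fun k => Sigma.ι (fun k => E (j k)) k.1 ≫ π
      haveI := hQ j'
      obtain ⟨i, hi, hif⟩ := exists_embedding_of_generators f _ φ (S : Set X) U hU
        (fun y => by
          obtain ⟨x, hx, hyx⟩ := Set.mem_iUnion₂.1 (hS (Set.mem_univ y))
          exact ⟨x, hx, hyx⟩) (fun y => (t y : Set Γ(Y, f ⁻¹ᵁ U y))) ht fun y hy a ha => by
        have hle : R (s y a) y ≤ (φ.app (U y)).hom.range := iSup₂_le fun k hk => by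
          rintro _ ⟨z, rfl⟩
          have hkT : k ∈ T := Finset.mem_biUnion.2 ⟨y, hy, Finset.mem_biUnion.2 ⟨a, ha, hk⟩⟩
          have hι : Sigma.ι (fun k : ↥T => E (j' k)) ⟨k, hkT⟩ ≫ φ = Sigma.ι (fun k => E (j k)) k ≫ π :=
            Sigma.ι_desc _ _
          exact ⟨(Sigma.ι (fun k : ↥T => E (j' k)) ⟨k, hkT⟩).app (U y) z, congr(($hι).app (U y) z)⟩
        obtain ⟨e, he⟩ := hle (hs y a)
        exact ⟨e, he.trans (hg y a)⟩
      exact ⟨↥T, j', _, Groth.L18.SymSheaf.j _, i, Groth.L18.SymSheaf.isSymAlg _, hi, hif, fun _ => inferInstance⟩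
    · obtain ⟨i, hi, hif⟩ := exists_embedding_of_generators f _ π Set.univ U hU
        (fun y => ⟨y, trivial, hxU y⟩) (fun _ => Set.univ) (fun y => by
          letI := (f.app (U y)).hom.toAlgebra
          exact Algebra.adjoin_univ _ _) fun y _ a _ =>
        Groth.L16.AffineBC.surjective_app_of_epi π (hU y) (show Γ(B.toModule, U y) from a)
      exact ⟨κ, j, _, Groth.L18.SymSheaf.j _, i, Groth.L18.SymSheaf.isSymAlg _, hi, hif, fun h => absurd h hft⟩
  · haveI := hM
    haveI : IsAffineHom (Groth.L19.SplitExt.ret M) := inferInstance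
    obtain ⟨κ, j, B, φ, c, hB, hc, hcf, -⟩ := hemb _ (Groth.L19.SplitExt.ret M)
    haveI := hc
    haveI : Coh.IsQCoh (∐ fun k : κ => E (j k)) := Groth.L00.AlgQCoh.isQCoh_sigma _ fun k => (hE (j k)).1
    exact ⟨κ, j, exists_epi_of_embedding M _ B φ hB c hcf⟩

end Groth.L09.ResEmb
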